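import Groth.Agent.AVHomLib.Separating
import Groth.Agent.AVTorsLib.GeomPts
import Groth.Agent.FibDim.BaseField
import Groth.Prelude.Def_EndTate
import Mathlib.LinearAlgebra.FreeModule.Finite.Matrix

/-!
`Hom(A, B)` is finitely generated and acts independently on Tate modules.
-/

set_option autoImplicit false
set_option linter.style.haveILetI false
set_option linter.unusedSectionVars false
set_option backward.isDefEq.respectTransparency false
set_option backward.isDefEq.respectTransparency.types false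
set_option maxHeartbeats 800000

universe u

open CategoryTheory CategoryTheory.Limits MonoidalCategory CartesianMonoidalCategory MonObj AlgebraicGeometry
  TopologicalSpace

namespace Groth.Agent.AVHomLib

open AVTorsLib

variable {k : Type u} [Field k] (Ω : Type u) [Field Ω] [Algebra k Ω] [IsAlgClosed Ω]
  {A B : Over (Spec (CommRingCat.of k))}
  [GrpObj A] [IsCommMonObj A] [IsProper A.hom] [GeometricallyIntegral A.hom]
  [GrpObj B] [IsCommMonObj B] [IsProper B.hom] [GeometricallyIntegral B.hom]

/-- Homomorphisms of an independent family act independently on the Tate modules. -/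
theorem tateMap_linearIndependent (l : ℕ) [Fact l.Prime] (hl : (l : k) ≠ 0) {n : ℕ}
    (e : Fin n → EndAV.Hom A B) (he : LinearIndependent ℤ e) :
    LinearIndependent ℤ_[l] (fun i => EndAV.Hom.tateMap (A := A) (B := B) l (SGA7.pt Ω) (e i)) := by
  refine Fintype.linearIndependent_iff.2 fun c hc i => ?_
  -- the saturation of the span of the family
  let Γ : AddSubgroup (EndAV.Hom A B) :=
    { carrier := {f | ∃ N : ℤ, N ≠ 0 ∧ N • f ∈ Submodule.span ℤ (Set.range e)}
      zero_mem' := ⟨1, one_ne_zero, by rw [smul_zero]; exact zero_mem _⟩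
      add_mem' := by
        rintro f g ⟨N, hN, hf⟩ ⟨M, hM, hg⟩
        refine ⟨N * M, mul_ne_zero hN hM, ?_⟩
        rw [smul_add]
        exact add_mem (by rw [mul_comm, mul_smul]; exact Submodule.smul_mem _ _ hf)
          (by rw [mul_smul]; exact Submodule.smul_mem _ _ hg)
      neg_mem' := by
        rintro f ⟨N, hN, hf⟩
        exact ⟨N, hN, by rw [smul_neg]; exact neg_mem hf⟩ }
  let e' : Fin n → Γ := fun i => ⟨e i, 1, one_ne_zero, by rw [one_smul]; exact Submodule.subset_span ⟨i, rfl⟩⟩
  have hspan' : SpansUpToTorsion e' := fun f => by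
    obtain ⟨N, hN, hf⟩ := f.2
    refine ⟨N, hN, ?_⟩
    obtain ⟨a, ha⟩ := (Submodule.mem_span_range_iff_exists_fun ℤ).1 hf
    refine (Submodule.mem_span_range_iff_exists_fun ℤ).2 ⟨a, Subtype.ext ?_⟩
    rw [AddSubgroup.val_finsetSum]
    simpa [e'] using ha
  haveI := (finite_of_separating e' hspan' fun f hf => by
    obtain ⟨lam, hlam⟩ := exists_functional_ne_zero f.1 fun h => hf (Subtype.ext h)
    exact ⟨lam.comp Γ.subtype, hlam⟩).1
  obtain ⟨d, hd, hdM⟩ := exists_mul_mem_span e' hspan'
  refine padic_eq_zero (c i) d hd fun m => ?_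
  let a : Fin n → ℕ := fun j => (c j).appr m
  let φ : EndAV.Hom A B := ∑ j, a j • e j
  have hkill : ∀ x : SGA7.pt (K := k) Ω ⟶ A, x ∈ AbDual.torsPts A (l ^ m) (SGA7.pt Ω) → x ≫ φ.toHom = 1 := by
    intro x hx
    obtain ⟨z, hz⟩ := exists_component_eq (pt_divisible Ω l (Fact.out : l.Prime).one_le) m x hx
    have h1 := congrArg (AbDual.TateMod.component B l (SGA7.pt (K := k) Ω) m) (LinearMap.congr_fun hc z)
    rw [LinearMap.sum_apply, map_sum, LinearMap.zero_apply, map_zero] at h1
    have h2 : EndAV.Hom.ptsMap (SGA7.pt (K := k) Ω) φ (Additive.ofMul x) = 0 := by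
      rw [map_sum, AddMonoidHom.finsetSum_apply]
      refine Eq.trans (Finset.sum_congr rfl fun j _ => ?_) h1
      rw [map_nsmul, ← hz]
      rfl
    exact congrArg Additive.toMul h2
  obtain ⟨ψ, hψm, hψ⟩ := exists_factor_geom Ω φ.toHom (l ^ m) (by rw [Nat.cast_pow]; exact pow_ne_zero m hl) hkill
  haveI := hψm
  have hfac : φ = (l ^ m) • EndAV.Hom.of ψ := by
    ext1
    rw [hψ, MonObj.pow_comp, Category.id_comp, EndAV.Hom.toHom_nsmul]
    rfl
  have hφmem : φ ∈ Submodule.span ℤ (Set.range e) :=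
    sum_mem fun j _ => nsmul_mem (Submodule.subset_span (R := ℤ) (s := Set.range e) (show e j ∈ Set.range e from ⟨j, rfl⟩)) _
  have hψΓ : EndAV.Hom.of ψ ∈ Γ :=
    ⟨((l ^ m : ℕ) : ℤ), by exact_mod_cast pow_ne_zero m (Fact.out : l.Prime).ne_zero, by
      rw [natCast_zsmul, ← hfac]; exact hφmem⟩
  obtain ⟨b, hb⟩ := (Submodule.mem_span_range_iff_exists_fun ℤ).1 (hdM ⟨_, hψΓ⟩)
  have hb' : ∑ j, b j • e j = d • EndAV.Hom.of ψ := by
    have := congrArg Subtype.val hb
    rw [AddSubgroup.val_finsetSum] at this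
    exact this
  have h3 : ∑ j, (((l : ℤ) ^ m) * b j - d * (a j : ℤ)) • e j = 0 := by
    simp only [sub_smul, mul_smul, Finset.sum_sub_distrib, ← Finset.smul_sum, natCast_zsmul]
    rw [hb', show (∑ j, a j • e j) = φ from rfl, hfac, ← Nat.cast_pow, natCast_zsmul, smul_comm, sub_self]
  have h4 := Fintype.linearIndependent_iff.1 he _ h3 i
  exact ⟨b i, (sub_eq_zero.1 h4).symm⟩

theorem topologicalKrullDim_bc {g : ℕ} (hg : topologicalKrullDim A.left = g) :
    topologicalKrullDim ↥(Red.bc (extMap (k := k) Ω) A).left = g := by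
  haveI := (isAV_bc (A := A) Ω).1
  haveI : Subsingleton (Spec (CommRingCat.of k)) := inferInstanceAs (Subsingleton (PrimeSpectrum k))
  haveI : Subsingleton (Spec (CommRingCat.of Ω)) := inferInstanceAs (Subsingleton (PrimeSpectrum Ω))
  haveI : Nonempty (Spec (CommRingCat.of Ω)) := inferInstanceAs (Nonempty (PrimeSpectrum Ω))
  haveI : LocallyOfFiniteType (pullback.snd A.hom (extMap (k := k) Ω)) :=
    MorphismProperty.pullback_snd (P := @LocallyOfFiniteType) A.hom _ inferInstance
  exact (FibDim.topologicalKrullDim_baseChange (IsPullback.of_hasPullback A.hom (extMap (k := k) Ω))).trans hg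

/-- An independent family has at most `4gh` members. -/
theorem card_le (g h : ℕ) (hg : topologicalKrullDim A.left = g) (hh : topologicalKrullDim B.left = h) {n : ℕ}
    (e : Fin n → EndAV.Hom A B) (he : LinearIndependent ℤ e) : n ≤ 4 * g * h := by
  let Ω' := AlgebraicClosure k
  obtain ⟨l, hl, hlk⟩ : ∃ l : ℕ, l.Prime ∧ (l : k) ≠ 0 := by
    by_cases h2 : ((2 : ℕ) : k) = 0
    · refine ⟨3, Nat.prime_three, fun h3 => one_ne_zero (α := k) ?_⟩
      calc (1 : k) = ((3 : ℕ) : k) - ((2 : ℕ) : k) := by norm_num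
        _ = 0 := by rw [h3, h2, sub_zero]
    · exact ⟨2, Nat.prime_two, h2⟩
  haveI : Fact l.Prime := ⟨hl⟩
  have hA := tateMod_free (pt_divisible (A := A) Ω' l hl.one_le) _ (pt_natCard_tor Ω' (topologicalKrullDim_bc Ω' hg) l hlk)
  have hB := tateMod_free (pt_divisible (A := B) Ω' l hl.one_le) _ (pt_natCard_tor Ω' (topologicalKrullDim_bc Ω' hh) l hlk)
  haveI := hA.1
  haveI := hA.2.1
  haveI := hB.1
  haveI := hB.2.1
  have := (tateMap_linearIndependent Ω' l hlk e he).fintype_card_le_finrank
  rw [Fintype.card_fin, Module.finrank_linearMap, hA.2.2, hB.2.2] at this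
  calc n ≤ 2 * g * (2 * h) := this
    _ = 4 * g * h := by ring

/-- `Hom(A, B)` is free of finite rank. -/
theorem hom_free : Module.Finite ℤ (EndAV.Hom A B) ∧ Module.Free ℤ (EndAV.Hom A B) := by
  haveI : IsIntegral A.left := GeometricallyIntegral.isIntegral_of_subsingleton A.hom
  haveI : IsIntegral B.left := GeometricallyIntegral.isIntegral_of_subsingleton B.hom
  obtain ⟨n, e, -, hspan⟩ := exists_spansUpToTorsion _ fun n e he =>
    card_le _ _ (VarDim.topologicalKrullDim_eq_deg_genericPoint A.hom)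
      (VarDim.topologicalKrullDim_eq_deg_genericPoint B.hom) e he
  exact hom_finite_free e hspan

theorem linearIndependent_of {n : ℕ} (e : Fin n → (A ⟶ B)) [∀ i, IsMonHom (e i)]
    (he : LinearIndependent ℤ (fun i => Additive.ofMul (e i))) :
    LinearIndependent ℤ (fun i => EndAV.Hom.of (e i)) := by
  let f : EndAV.Hom A B →+ Additive (A ⟶ B) :=
    { toFun φ := Additive.ofMul φ.toHom, map_zero' := rfl, map_add' _ _ := rfl }
  exact LinearIndependent.of_comp f.toIntLinearMap he

end Groth.Agent.AVHomLib
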