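import Groth.Agent.AVHomLib.TateIndep
import Mathlib.RingTheory.Polynomial.GaussLemma
import Mathlib.FieldTheory.Minpoly.Field

/-!
The minimal polynomial of an endomorphism on the Tate module has integral coefficients.
-/

set_option autoImplicit false
set_option linter.style.haveILetI false
set_option linter.unusedSectionVars false
set_option backward.isDefEq.respectTransparency false
set_option backward.isDefEq.respectTransparency.types false

universe u

open CategoryTheory MonoidalCategory CartesianMonoidalCategory MonObj AlgebraicGeometry Polynomial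

namespace Groth.Agent.AVHomLib

open scoped TensorProduct

/-- An element of a ring finite free over `ℤ` has a monic polynomial with independent lower powers. -/
theorem exists_monic_int {E : Type*} [Ring E] [Module.Finite ℤ E] [Module.Free ℤ E] (a : E) :
    ∃ P : ℤ[X], P.Monic ∧ P.eval₂ (Int.castRingHom E) a = 0 ∧ LinearIndependent ℤ (fun i : Fin P.natDegree => a ^ (i : ℕ)) := by
  let inc : E →ₐ[ℤ] ℚ ⊗[ℤ] E := Algebra.TensorProduct.includeRight
  have hinc : Function.Injective inc := Algebra.TensorProduct.includeRight_injective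
    ((algebraMap ℤ ℚ).injective_int)
  obtain ⟨Pm, hPm, hPm0⟩ := IsIntegral.of_finite ℤ a
  have h0 : aeval (inc a) (Pm.map (algebraMap ℤ ℚ)) = 0 := by
    rw [aeval_map_algebraMap, aeval_algHom_apply, show aeval a Pm = 0 from hPm0, map_zero]
  have hint : IsIntegral ℚ (inc a) := ⟨_, hPm.map _, h0⟩
  obtain ⟨P, hP⟩ := IsIntegrallyClosed.eq_map_mul_C_of_dvd ℚ hPm (minpoly.dvd ℚ (inc a) h0)
  rw [(minpoly.monic hint).leadingCoeff, map_one, _root_.mul_one] at hP
  have hPmon : P.Monic := monic_of_injective (algebraMap ℤ ℚ).injective_int (hP ▸ minpoly.monic hint)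
  refine ⟨P, hPmon, ?_, ?_⟩
  · rw [RingHom.ext_int (Int.castRingHom E) (algebraMap ℤ E), ← aeval_def]
    apply hinc
    rw [map_zero, ← aeval_algHom_apply, ← aeval_map_algebraMap ℚ, hP, minpoly.aeval]
  · have hd : P.natDegree = (minpoly ℚ (inc a)).natDegree := by
      rw [← hP, hPmon.natDegree_map]
    rw [hd]
    refine LinearIndependent.of_comp inc.toLinearMap ?_
    have h := (linearIndependent_pow (K := ℚ) (inc a)).restrict_scalars
      (R := ℤ) (fun x y h => by simpa using h)
    simpa [Function.comp_def] using h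

theorem eq_zero_of_natDegree_lt {R S : Type*} [CommRing R] [Ring S] [Algebra R S] {x : S} {d : ℕ}
    (h : LinearIndependent R (fun i : Fin d => x ^ (i : ℕ))) {Q : R[X]} (hQ : Q.natDegree < d)
    (h0 : aeval x Q = 0) : Q = 0 := by
  rw [aeval_eq_sum_range' hQ, ← Fin.sum_univ_eq_sum_range (fun i => Q.coeff i • x ^ i) d] at h0
  ext i
  rcases lt_or_ge i d with hi | hi
  · exact (Fintype.linearIndependent_iff.1 h _ h0 ⟨i, hi⟩).trans (coeff_zero i).symm
  · rw [coeff_zero, coeff_eq_zero_of_natDegree_lt (by omega)]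

theorem minpoly_tateRep {k : Type u} [Field k] (Ω : Type u) [Field Ω] [Algebra k Ω] [IsAlgClosed Ω]
    (l : ℕ) [Fact l.Prime] (hl : (l : k) ≠ 0) {A : Over (Spec (CommRingCat.of k))}
    [GrpObj A] [IsCommMonObj A] [IsProper A.hom] [GeometricallyIntegral A.hom] (α : EndAV.End A)
    [Module.Free ℤ_[l] (AbDual.TateMod A l (SGA7.pt (K := k) Ω))]
    [Module.Finite ℤ_[l] (AbDual.TateMod A l (SGA7.pt (K := k) Ω))] :
    ∃ P : ℤ[X], P.Monic ∧ minpoly ℤ_[l] (EndAV.End.tateRep l (SGA7.pt (K := k) Ω) α) = P.map (Int.castRingHom ℤ_[l]) := by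
  obtain ⟨hfin, hfree⟩ := hom_free (A := A) (B := A)
  haveI : Module.Finite ℤ (EndAV.End A) := hfin
  haveI : Module.Free ℤ (EndAV.End A) := hfree
  obtain ⟨P, hP, hP0, hind⟩ := exists_monic_int α
  set T := EndAV.End.tateRep l (SGA7.pt (K := k) Ω) α
  refine ⟨P, hP, ?_⟩
  have hindT : LinearIndependent ℤ_[l] (fun i : Fin P.natDegree => T ^ (i : ℕ)) := by
    have h := tateMap_linearIndependent Ω l hl (fun i : Fin P.natDegree => (α ^ (i : ℕ) : EndAV.End A)) hind
    have he : (fun i : Fin P.natDegree => T ^ (i : ℕ)) =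
        fun i : Fin P.natDegree => EndAV.Hom.tateMap l (SGA7.pt (K := k) Ω) (α ^ (i : ℕ) : EndAV.End A) :=
      funext fun i => (map_pow (EndAV.End.tateRep l (SGA7.pt (K := k) Ω)) α i).symm
    rw [he]
    exact h
  have hT0 : aeval T (P.map (Int.castRingHom ℤ_[l])) = 0 := by
    have h1 := congrArg (EndAV.End.tateRep l (SGA7.pt (K := k) Ω)) hP0
    rw [map_zero, hom_eval₂] at h1
    rw [aeval_def, eval₂_map]
    refine Eq.trans ?_ h1
    congr 1
    exact RingHom.ext_int _ _
  have hint : IsIntegral ℤ_[l] T := ⟨_, hP.map _, hT0⟩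
  have hdeg : (P.map (Int.castRingHom ℤ_[l])).natDegree = P.natDegree := hP.natDegree_map _
  have hle : (minpoly ℤ_[l] T).natDegree ≤ P.natDegree :=
    hdeg ▸ natDegree_le_natDegree (minpoly.min _ _ (hP.map _) hT0)
  have heq : (minpoly ℤ_[l] T).natDegree = P.natDegree := by
    by_contra hne
    exact (minpoly.monic hint).ne_zero (eq_zero_of_natDegree_lt hindT (by omega) (minpoly.aeval _ _))
  by_contra hne
  have hsub : aeval T (minpoly ℤ_[l] T - P.map (Int.castRingHom ℤ_[l])) = 0 := by
    rw [map_sub, minpoly.aeval, hT0, sub_zero]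
  have hd : (minpoly ℤ_[l] T - P.map (Int.castRingHom ℤ_[l])).degree < (minpoly ℤ_[l] T).degree :=
    degree_sub_lt (by
      rw [degree_eq_natDegree (minpoly.monic hint).ne_zero, degree_eq_natDegree (hP.map _).ne_zero, heq, hdeg])
      (minpoly.monic hint).ne_zero (by rw [(minpoly.monic hint).leadingCoeff, (hP.map _).leadingCoeff])
  refine sub_ne_zero.2 hne (eq_zero_of_natDegree_lt hindT ?_ hsub)
  exact heq ▸ natDegree_lt_natDegree (sub_ne_zero.2 hne) hd

end Groth.Agent.AVHomLib
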