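import Groth.Agent.Lib.CurveDeg
import Groth.Agent.Lib.CurveRR
import Groth.Agent.InvX.GenLocusPull
import Groth.Agent.H23.PicMul

/-!
Degrees of pullbacks of ample modules to curves.
-/

set_option autoImplicit false
set_option linter.style.haveILetI false
set_option linter.unusedSectionVars false
set_option backward.isDefEq.respectTransparency false
set_option backward.isDefEq.respectTransparency.types false

universe u

open CategoryTheory CategoryTheory.Limits AlgebraicGeometry TopologicalSpace Opposite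

namespace Groth.Agent.AVHomLib

open scoped Groth.Agent.H23.PicMul

theorem genLocus_eq_bot_of_eq_zero {X : Scheme.{u}} {M : X.Modules} (hM : PicF.IsInvertible M) :
    CohB1.genLocus M (0 : Coh.structureModule X ⟶ M) = ⊥ := by
  refine Opens.ext (Set.eq_empty_of_forall_notMem fun x hx => ?_)
  obtain ⟨U, hxU, ε, hε⟩ := InvX.exists_frame hM x
  have h1 := InvX.genLocus_inf (0 : Coh.structureModule X ⟶ M) hε (g := 0) (by
    rw [zero_smul]
    exact (congrArg _ (show InvX.one (0 : Coh.structureModule X ⟶ M) = 0 from rfl)).trans (map_zero _))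
  have h2 : x ∈ CohB1.genLocus M (0 : Coh.structureModule X ⟶ M) ⊓ U := ⟨hx, hxU⟩
  rw [h1, Scheme.basicOpen_zero] at h2
  exact h2

theorem range_subsingleton_of_affine {k : Type u} [Field k] {C Y : Scheme.{u}}
    (p : C ⟶ Spec (CommRingCat.of k)) [IsProper p] [IsIntegral C] (g : C ⟶ Y) {U : Y.Opens} (hU : IsAffineOpen U)
    (h : Set.range g ⊆ (U : Set Y)) : (Set.range g).Subsingleton := by
  haveI : IsAffine U.toScheme := hU
  let g' : C ⟶ U.toScheme := IsOpenImmersion.lift U.ι g (by rwa [U.range_ι])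
  have hg : g' ≫ U.ι = g := IsOpenImmersion.lift_fac _ _ _
  have hnat : C.toSpecΓ ≫ (Spec.map g'.appTop ≫ inv U.toScheme.toSpecΓ) = g' := by
    rw [← Category.assoc, ← Scheme.toSpecΓ_naturality, Category.assoc, IsIso.hom_inv_id, Category.comp_id]
  haveI : Subsingleton (Spec Γ(C, ⊤)) := by
    letI := (isField_of_universallyClosed k p).toField
    exact inferInstanceAs (Subsingleton (PrimeSpectrum Γ(C, ⊤)))
  rintro _ ⟨a, rfl⟩ _ ⟨b, rfl⟩
  rw [← hg, ← hnat]
  simp only [Category.assoc, Scheme.Hom.comp_apply]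
  rw [Subsingleton.elim (C.toSpecΓ a) (C.toSpecΓ b)]

variable (k : Type u) [Field k] (C : Scheme.{u}) [C.Over (Spec (CommRingCat.of k))] [IsIntegral C]
  [IsProper (C ↘ Spec (CommRingCat.of k))]

/-- The degree of a class of modules. -/
noncomputable def degCl : PicF.Cl C → ℤ :=
  Quot.lift (fun L => Curv2.deg k C L 1) (by
    rintro a b ⟨e⟩
    unfold Curv2.deg
    rw [Euler.euler_congr k e])

theorem degCl_cl (L : C.Modules) : degCl k C (PicF.cl L) = Curv2.deg k C L 1 := rfl


theorem degCl_one : degCl k C 1 = 0 := CurveDeg.deg_structureModule k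

theorem degCl_mul (hdim : topologicalKrullDim C = 1) {c d : PicF.Cl C} (hc : PicF.IsInvertibleCl c)
    (hd : PicF.IsInvertibleCl d) : degCl k C (c * d) = degCl k C c + degCl k C d := by
  obtain ⟨L, rfl, hL⟩ := hc
  obtain ⟨M, rfl, hM⟩ := hd
  exact CurveRR.deg_tensor k hdim hL hM

theorem degCl_pow (hdim : topologicalKrullDim C = 1) {c : PicF.Cl C} (hc : PicF.IsInvertibleCl c) (n : ℕ) :
    degCl k C (c ^ n) = n * degCl k C c := by
  obtain ⟨L, rfl, hL⟩ := hc
  induction n with
  | zero => rw [pow_zero, degCl_one]; simp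
  | succ n ih =>
    rw [pow_succ, degCl_mul k C hdim ⟨_, H23.PicMul.cl_tensorPow L n, H23.PicMul.isInvertible_tensorPow hL n⟩
      ⟨L, rfl, hL⟩, ih]
    push_cast
    ring

/-- The degree of the pullback of an ample module is nonnegative and vanishes only for constant maps. -/
theorem deg_pullback_ample (hdim : topologicalKrullDim C = 1) {Y : Scheme.{u}} (g : C ⟶ Y) (L : Y.Modules)
    (hL : CohB1.IsAmple L) :
    0 ≤ degCl k C (PicF.pullCl g (PicF.cl L)) ∧
      (degCl k C (PicF.pullCl g (PicF.cl L)) = 0 → (Set.range g).Subsingleton) := by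
  obtain ⟨hinv, -, hex⟩ := hL
  obtain ⟨n, s, hs, haff⟩ := hex (g (genericPoint C))
  have hpow := H23.PicMul.isInvertible_tensorPow hinv (n + 1)
  obtain ⟨e⟩ := PicClLib.nonempty_pullback_structureModule g
  have hg := InvX.genLocus_pullback g hpow s e.symm
  have hM : PicF.IsInvertible ((Scheme.Modules.pullback g).obj (CohB1.tensorPow L (n + 1))) :=
    PicClLib.isInvertible_pullback g hpow
  set φ := e.symm.hom ≫ (Scheme.Modules.pullback g).map s
  have hφ : φ ≠ 0 := fun h => by
    have h1 : genericPoint C ∈ g ⁻¹ᵁ CohB1.genLocus _ s := hs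
    rw [← hg, h, genLocus_eq_bot_of_eq_zero hM] at h1
    exact h1
  have hdegM : Curv2.deg k C ((Scheme.Modules.pullback g).obj (CohB1.tensorPow L (n + 1))) 1 =
      (n + 1 : ℕ) * degCl k C (PicF.pullCl g (PicF.cl L)) := by
    rw [← degCl_pow k C hdim (c := PicF.pullCl g (PicF.cl L)) ⟨_, rfl, PicClLib.isInvertible_pullback g hinv⟩,
      ← H23.PicMul.pullCl_pow,
      ← H23.PicMul.cl_tensorPow]
    rfl
  obtain ⟨h1, h2⟩ := CurveDeg.deg_le_and_isIso k hdim.le CurveDeg.isInvertible_structureModule hM φ hφ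
  rw [CurveDeg.deg_structureModule, hdegM] at h1 h2
  refine ⟨(mul_nonneg_iff_of_pos_left (by positivity)).1 h1, fun h0 => ?_⟩
  haveI : IsIso φ := h2 (by rw [h0, mul_zero])
  have htop : CohB1.genLocus _ φ = ⊤ :=
    top_le_iff.1 (le_sSup (show IsIso ((Scheme.Modules.restrictFunctor (⊤ : C.Opens).ι).map φ) from inferInstance))
  rw [hg] at htop
  refine range_subsingleton_of_affine (C ↘ Spec (CommRingCat.of k)) g haff ?_
  rintro _ ⟨c, rfl⟩
  exact htop.ge (Opens.mem_top c)

end Groth.Agent.AVHomLib
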