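import Groth.Agent.H23.RedSub
import Groth.Agent.QCoh.Devissage
import Mathlib.RingTheory.Ideal.KrullsHeightTheorem

/-!
A non-constant closed map out of an integral scheme is non-constant on a curve.
-/

set_option autoImplicit false
set_option linter.style.haveILetI false
set_option linter.unusedSectionVars false

universe u

open CategoryTheory AlgebraicGeometry TopologicalSpace

namespace Groth.Agent.AVHomLib

/-- Below a prime of height at least two, some nonzero prime avoids a given nonzero element. -/
theorem exists_prime_le_notMem {R : Type*} [CommRing R] [IsDomain R] [IsNoetherianRing R] {p m : Ideal R}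
    [p.IsPrime] [m.IsPrime] (hp : ⊥ < p) (hpm : p < m) {a : R} (ha : a ≠ 0) :
    ∃ q : Ideal R, q.IsPrime ∧ q ≠ ⊥ ∧ q ≤ m ∧ a ∉ q := by
  by_contra hcon
  push Not at hcon
  have hfin : (Ideal.span {a}).minimalPrimes.Finite := Ideal.finite_minimalPrimes_of_isNoetherianRing R _
  have h2 : (2 : ℕ∞) ≤ m.height := by
    have h0 : (⊥ : Ideal R).height < p.height := Ideal.height_strict_mono_of_isPrime_of_isPrime hp
    have h1 : p.height < m.height := Ideal.height_strict_mono_of_isPrime_of_isPrime hpm
    calc (2 : ℕ∞) = 0 + 1 + 1 := rfl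
      _ ≤ p.height + 1 := by gcongr; exact Order.add_one_le_of_lt (lt_of_le_of_lt zero_le h0)
      _ ≤ m.height := Order.add_one_le_of_lt h1
  have hcov : (m : Set R) ⊆ ⋃ q ∈ (hfin.toFinset : Set (Ideal R)), (q : Set R) := by
    intro b hb
    rcases eq_or_ne b 0 with rfl | hb0
    · obtain ⟨q, hq, -⟩ := Ideal.exists_minimalPrimes_le (show Ideal.span {a} ≤ m from
        (Ideal.span_singleton_le_iff_mem _).2 (hcon m inferInstance (hp.trans hpm).ne' le_rfl))
      exact Set.mem_biUnion (hfin.mem_toFinset.2 hq) q.zero_mem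
    · obtain ⟨q, hq, hqm⟩ := Ideal.exists_minimalPrimes_le
        ((Ideal.span_singleton_le_iff_mem (I := m) (x := b)).2 hb)
      haveI := hq.1.1
      have hbq : b ∈ q := hq.1.2 (Ideal.mem_span_singleton_self b)
      have hq0 : q ≠ ⊥ := fun h => hb0 (by simpa [h] using hbq)
      have haq : a ∈ q := hcon q inferInstance hq0 hqm
      refine Set.mem_biUnion (hfin.mem_toFinset.2 ⟨⟨inferInstance, (Ideal.span_singleton_le_iff_mem _).2 haq⟩, ?_⟩) hbq
      intro q' hq' hle
      by_contra hne
      haveI := hq'.1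
      have hlt : q' < q := lt_of_le_not_ge hle hne
      have hq'0 : ⊥ < q' := bot_lt_iff_ne_bot.2 fun h => ha (by simpa [h] using hq'.2 (Ideal.mem_span_singleton_self a))
      have h0 : (⊥ : Ideal R).height < q'.height := Ideal.height_strict_mono_of_isPrime_of_isPrime hq'0
      have h1 : q'.height < q.height := Ideal.height_strict_mono_of_isPrime_of_isPrime hlt
      have hle1 : q.height ≤ 1 := Ideal.height_le_one_of_isPrincipal_of_mem_minimalPrimes _ q hq
      exact absurd (Order.lt_one_iff.1 (h1.trans_le hle1)) (lt_of_le_of_lt zero_le h0).ne'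
  obtain ⟨q, hq, hmq⟩ := (Ideal.subset_union_prime (f := fun q : Ideal R => q) ⊥ ⊥
    fun q hq _ _ => (hfin.mem_toFinset.1 hq).1.1).1 hcov
  have hq' := hfin.mem_toFinset.1 hq
  have hle1 : q.height ≤ 1 := Ideal.height_le_one_of_isPrincipal_of_mem_minimalPrimes _ q hq'
  exact absurd ((h2.trans (Ideal.height_mono hmq)).trans hle1) (by norm_num)

variable {X Y : Scheme.{u}}

/-- A non-constant closed map that is constant on every proper irreducible closed subset lives on a curve. -/
theorem dim_eq_one_of_minimal {C : Scheme.{u}} [IsIntegral C] [IsLocallyNoetherian C] [JacobsonSpace C] (g : C ⟶ Y)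
    (hg : IsClosedMap g) (hne : ¬ (Set.range g).Subsingleton)
    (hmin : ∀ w : C, w ≠ genericPoint C → (g '' closure {w}).Subsingleton) : topologicalKrullDim C = 1 := by
  have hη : ∀ z : C, IsClosed ({z} : Set C) → g (genericPoint C) ≠ g z := fun z hz h => by
    refine hne ?_
    have hK : IsClosed (g ⁻¹' {g z}) := (Set.image_singleton (f := g) (a := z) ▸ hg _ hz).preimage g.continuous
    have hall : (Set.univ : Set C) ⊆ g ⁻¹' {g z} := by
      rw [← genericPoint_closure]
      exact closure_minimal (Set.singleton_subset_iff.2 h) hK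
    rintro _ ⟨a, rfl⟩ _ ⟨b, rfl⟩
    exact (hall (Set.mem_univ a)).trans (hall (Set.mem_univ b)).symm
  have hclosed : ∀ w : C, w ≠ genericPoint C → IsClosed ({w} : Set C) := by
    intro w hw
    by_contra hwc
    obtain ⟨z, hzw, hz⟩ : ∃ z ∈ closure ({w} : Set C), IsClosed ({z} : Set C) := by
      obtain ⟨z, hz, hz'⟩ := nonempty_inter_closedPoints (Z := closure ({w} : Set C)) ⟨w, subset_closure rfl⟩
        isClosed_closure.isLocallyClosed
      exact ⟨z, hz, hz'⟩
    have hzne : z ≠ w := fun h => hwc (h ▸ hz)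
    obtain ⟨_, ⟨W, hW, rfl⟩, hzW, -⟩ := C.isBasis_affineOpens.exists_subset_of_mem_open (Set.mem_univ z) isOpen_univ
    have hwz : w ⤳ z := specializes_iff_mem_closure.2 hzw
    have hwW : w ∈ W := hwz.mem_open W.isOpen hzW
    have hηW : genericPoint C ∈ W := (genericPoint_specializes z).mem_open W.isOpen hzW
    haveI : Nonempty W := ⟨⟨z, hzW⟩⟩
    haveI : IsNoetherianRing Γ(C, W) := IsLocallyNoetherian.component_noetherian ⟨W, hW⟩
    have hW : IsAffineOpen W := hW
    let pz := hW.primeIdealOf ⟨z, hzW⟩
    let pw := hW.primeIdealOf ⟨w, hwW⟩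
    let pη := hW.primeIdealOf ⟨_, hηW⟩
    have hemb : Topology.IsInducing hW.fromSpec := hW.isOpenImmersion_fromSpec.base_open.isInducing
    have hez : hW.fromSpec pz = z := hW.fromSpec_primeIdealOf _
    have hew : hW.fromSpec pw = w := hW.fromSpec_primeIdealOf _
    have heη : hW.fromSpec pη = genericPoint C := hW.fromSpec_primeIdealOf _
    have hle : ∀ p q : PrimeSpectrum Γ(C, W), hW.fromSpec p ⤳ hW.fromSpec q → p.asIdeal ≤ q.asIdeal := fun p q h =>
      (PrimeSpectrum.le_iff_specializes p q).2 (hemb.specializes_iff.1 h)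
    have hηbot : pη.asIdeal = ⊥ := le_bot_iff.1 <| hle pη ⟨⊥, Ideal.isPrime_bot⟩ (by
      rw [heη]; exact genericPoint_specializes _)
    have hwbot : ⊥ < pw.asIdeal := bot_lt_iff_ne_bot.2 fun h => hw (by
      rw [← hew, ← heη, PrimeSpectrum.ext (h.trans hηbot.symm)])
    have hwz' : pw.asIdeal < pz.asIdeal := lt_of_le_of_ne (hle pw pz (by rw [hew, hez]; exact hwz))
      fun h => hzne (by rw [← hez, ← hew, PrimeSpectrum.ext h.symm])
    have hK : IsClosed (hW.fromSpec ⁻¹' (g ⁻¹' {g z})) :=
      ((Set.image_singleton (f := g) (a := z) ▸ hg _ hz).preimage g.continuous).preimage hW.fromSpec.continuous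
    obtain ⟨I, hI⟩ := (PrimeSpectrum.isClosed_iff_zeroLocus_ideal _).1 hK
    obtain ⟨a, haI, ha⟩ : ∃ a ∈ I, a ≠ 0 := by
      by_contra h
      push Not at h
      have : pη ∈ hW.fromSpec ⁻¹' (g ⁻¹' {g z}) := by
        rw [hI]
        intro x hx
        rw [h x hx]
        exact pη.asIdeal.zero_mem
      exact hη z hz (heη ▸ (show g (hW.fromSpec pη) = g z from this))
    obtain ⟨q, hq, hq0, hqz, haq⟩ := exists_prime_le_notMem hwbot hwz' ha
    let pq : PrimeSpectrum Γ(C, W) := ⟨q, hq⟩
    have hyne : hW.fromSpec pq ≠ genericPoint C := fun h => hq0 (by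
      rw [← heη] at h
      exact (congrArg PrimeSpectrum.asIdeal (hW.isOpenImmersion_fromSpec.base_open.injective h)).trans hηbot)
    have hyz : z ∈ closure ({hW.fromSpec pq} : Set C) := by
      rw [← specializes_iff_mem_closure, ← hez, hemb.specializes_iff]
      exact (PrimeSpectrum.le_iff_specializes pq pz).1 hqz
    have hgy : g (hW.fromSpec pq) ≠ g z := fun h => by
      have : pq ∈ hW.fromSpec ⁻¹' (g ⁻¹' {g z}) := h
      rw [hI] at this
      exact haq (this haI)
    exact hgy (hmin _ hyne ⟨_, subset_closure rfl, rfl⟩ ⟨_, hyz, rfl⟩)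
  refine le_antisymm ?_ ?_
  · refine Order.krullDim_le_one_iff.2 fun s => ?_
    let w := s.isIrreducible.genericPoint
    have hs : closure {w} = (s : Set C) := by
      exact s.isIrreducible.isGenericPoint_genericPoint_closure.def.trans s.isClosed.closure_eq
    by_cases hw : w = genericPoint C
    · refine Or.inr fun t _ => ?_
      have : (s : Set C) = Set.univ := by rw [← hs, hw, genericPoint_closure]
      intro x _
      show x ∈ (s : Set C)
      rw [this]
      trivial
    · refine Or.inl fun t ht => ?_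
      have hsw : (s : Set C) = {w} := by rw [← hs, (hclosed w hw).closure_eq]
      intro x hx
      obtain ⟨y, hy⟩ := t.isIrreducible.nonempty
      have hyw : y = w := Set.mem_singleton_iff.1 (hsw ▸ ht hy)
      have hxw : x = w := Set.mem_singleton_iff.1 (hsw ▸ hx)
      show x ∈ (t : Set C)
      rw [hxw, ← hyw]
      exact hy
  · obtain ⟨z, -, hz⟩ := nonempty_inter_closedPoints (Z := (Set.univ : Set C)) Set.univ_nonempty
      isClosed_univ.isLocallyClosed
    refine Order.one_le_krullDim_iff.2 ⟨⟨{z}, isIrreducible_singleton, hz⟩,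
      ⟨Set.univ, IrreducibleSpace.isIrreducible_univ C, isClosed_univ⟩, lt_of_le_of_ne (Set.subset_univ _) ?_⟩
    intro h
    have h' : ({z} : Set C) = Set.univ := congrArg (fun s : IrreducibleCloseds C => (s : Set C)) h
    exact hη z hz (congrArg g (Set.mem_singleton_iff.1 (h'.symm ▸ Set.mem_univ (genericPoint C))))

/-- A non-constant closed map out of an integral Noetherian Jacobson scheme is non-constant on a curve. -/
theorem exists_curve [IsNoetherian X] [IsIntegral X] [JacobsonSpace X] (f : X ⟶ Y) (hf : IsClosedMap f)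
    (hne : ¬ (Set.range f).Subsingleton) :
    ∃ (C : Scheme.{u}) (j : C ⟶ X) (_ : IsClosedImmersion j) (_ : IsIntegral C),
      topologicalKrullDim C = 1 ∧ ¬ (Set.range (j ≫ f)).Subsingleton := by
  let P : Set (Closeds X) := {T | ∃ ξ : X, T = Closeds.closure {ξ} ∧ ¬ (f '' closure {ξ}).Subsingleton}
  have hP : P.Nonempty := ⟨_, genericPoint X, rfl, by rwa [genericPoint_closure, Set.image_univ]⟩
  obtain ⟨T, ⟨ξ, rfl, hξ⟩, hT⟩ := (wellFounded_lt (α := Closeds X)).has_min P hP
  set J := Scheme.IdealSheafData.vanishingIdeal (Closeds.closure {ξ})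
  haveI : IsIntegral J.subscheme := QCoh.isIntegral_closure_point ξ
  have hr : Set.range J.subschemeι = closure {ξ} := H23.RedSub.range_vanishingIdeal _
  haveI : IsLocallyNoetherian J.subscheme := LocallyOfFiniteType.isLocallyNoetherian J.subschemeι
  haveI : JacobsonSpace J.subscheme := LocallyOfFiniteType.jacobsonSpace J.subschemeι
  have hrange : Set.range (J.subschemeι ≫ f) = f '' closure {ξ} := by
    rw [← hr, ← Set.range_comp]
    rfl
  refine ⟨_, J.subschemeι, inferInstance, inferInstance, dim_eq_one_of_minimal (J.subschemeι ≫ f) ?_ ?_ ?_,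
    hrange ▸ hξ⟩
  · exact hf.comp J.subschemeι.isClosedEmbedding.isClosedMap
  · exact hrange ▸ hξ
  · intro w hw
    by_contra hwne
    have hcl : closure ({J.subschemeι w} : Set X) = J.subschemeι '' closure {w} := by
      rw [← Set.image_singleton, J.subschemeι.isClosedEmbedding.closure_image_eq]
    refine hT (Closeds.closure {J.subschemeι w}) ⟨_, rfl, ?_⟩ ?_
    · rwa [hcl, ← Set.image_comp]
    · refine lt_of_le_of_ne ?_ fun h => hw ?_
      · show closure ({J.subschemeι w} : Set X) ⊆ closure {ξ}
        rw [hcl, ← hr]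
        exact Set.image_subset_range _ _
      · have h' : J.subschemeι '' closure {w} = J.subschemeι '' Set.univ := by
          rw [← hcl, Set.image_univ, hr]
          exact congrArg (fun T : Closeds X => (T : Set X)) h
        exact ((genericPoint_spec J.subscheme).eq (Set.image_injective.2 J.subschemeι.isClosedEmbedding.injective h')).symm

end Groth.Agent.AVHomLib
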