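import Mathlib.LinearAlgebra.FreeModule.PID
import Mathlib.LinearAlgebra.Dimension.Finite
import Mathlib.RingTheory.Noetherian.Basic
import Mathlib.NumberTheory.Padics.RingHoms
import Mathlib.Tactic.Abel
import Mathlib.Tactic.LinearCombination

/-!
Groups of finite rank whose integral functionals separate points.
-/

set_option autoImplicit false

namespace Groth.Agent.AVHomLib

variable {G : Type*} [AddCommGroup G]

/-- Every element has a nonzero multiple in the span of `e`. -/
def SpansUpToTorsion {n : ℕ} (e : Fin n → G) : Prop :=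
  ∀ f : G, ∃ N : ℤ, N ≠ 0 ∧ N • f ∈ Submodule.span ℤ (Set.range e)

/-- A group of finite rank whose functionals separate points is finitely generated. -/
theorem finite_of_separating {n : ℕ} (e : Fin n → G) (hspan : SpansUpToTorsion e)
    (hsep : ∀ f : G, f ≠ 0 → ∃ lam : G →+ ℤ, lam f ≠ 0) : Module.Finite ℤ G ∧ Module.Free ℤ G := by
  let R : (G →ₗ[ℤ] ℤ) →ₗ[ℤ] (Fin n → ℤ) :=
    { toFun lam i := lam (e i), map_add' _ _ := rfl, map_smul' _ _ := rfl }
  obtain ⟨s, hs⟩ := IsNoetherian.noetherian (LinearMap.range R)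
  have hmem : ∀ x : (s : Set (Fin n → ℤ)), ∃ lam, R lam = x := fun x =>
    LinearMap.mem_range.1 (hs ▸ Submodule.subset_span x.2)
  choose lams hlams using hmem
  let Φ : G →ₗ[ℤ] (↥(↑s : Set (Fin n → ℤ)) → ℤ) := LinearMap.pi lams
  haveI : IsAddTorsionFree G := ⟨fun N hN x y hxy => by
    by_contra hne
    obtain ⟨lam, hlam⟩ := hsep (x - y) (sub_ne_zero.2 hne)
    refine hlam ?_
    have h : N • (x - y) = 0 := by
      rw [nsmul_sub]
      exact sub_eq_zero.2 hxy
    have := congrArg lam h
    rw [map_nsmul, map_zero, nsmul_eq_mul, mul_eq_zero] at this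
    exact this.resolve_left (by exact_mod_cast hN)⟩
  have hinj : Function.Injective Φ := (injective_iff_map_eq_zero Φ).2 fun f hf => by
    obtain ⟨N, hN, hx⟩ := hspan f
    obtain ⟨c, hc⟩ := (Submodule.mem_span_range_iff_exists_fun ℤ).1 hx
    by_contra hne
    obtain ⟨lam, hlam⟩ := hsep f hne
    apply hlam
    have hle : ∀ v ∈ Submodule.span ℤ (s : Set (Fin n → ℤ)), ∑ i, c i * v i = 0 := by
      intro v hv
      induction hv using Submodule.span_induction with
      | mem v hv =>
        have h0 : lams ⟨v, hv⟩ f = 0 := congrFun hf ⟨v, hv⟩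
        have h1 := congrArg (lams ⟨v, hv⟩) hc
        rw [map_sum, map_smul, h0, smul_zero] at h1
        have h2 : ∀ i, lams ⟨v, hv⟩ (e i) = v i := congrFun (hlams ⟨v, hv⟩)
        simpa [h2] using h1
      | zero => simp
      | add x y _ _ hx hy => simp [mul_add, Finset.sum_add_distrib, hx, hy]
      | smul a x _ hx =>
        simp only [Pi.smul_apply, smul_eq_mul, mul_left_comm _ a, ← Finset.mul_sum, hx, mul_zero]
    have h3 := hle (R lam.toIntLinearMap) (hs ▸ LinearMap.mem_range_self R _)
    have h4 := congrArg lam hc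
    rw [map_sum, map_zsmul] at h4
    simp only [map_zsmul, smul_eq_mul] at h4
    exact (mul_eq_zero.1 (h4 ▸ (h3 : ∑ i, c i * lam (e i) = 0))).resolve_left hN
  haveI : Module.Finite ℤ G := Module.Finite.of_injective Φ hinj
  exact ⟨inferInstance, inferInstance⟩

theorem exists_mul_mem_span [Module.Finite ℤ G] {n : ℕ} (e : Fin n → G) (hspan : SpansUpToTorsion e) :
    ∃ d : ℤ, d ≠ 0 ∧ ∀ f : G, d • f ∈ Submodule.span ℤ (Set.range e) := by
  obtain ⟨s, hs⟩ := Module.Finite.fg_top (R := ℤ) (M := G)
  choose N hN hmem using hspan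
  refine ⟨∏ x ∈ s, N x, Finset.prod_ne_zero_iff.2 fun x _ => hN x, fun f => ?_⟩
  have hf : f ∈ Submodule.span ℤ (s : Set G) := hs ▸ Submodule.mem_top
  induction hf using Submodule.span_induction with
  | mem x hx =>
    obtain ⟨q, hq⟩ := Finset.dvd_prod_of_mem N hx
    rw [hq, mul_comm, mul_smul]
    exact Submodule.smul_mem _ q (hmem x)
  | zero => rw [smul_zero]; exact zero_mem _
  | add x y _ _ hx hy => rw [smul_add]; exact add_mem hx hy
  | smul a x _ hx => rw [smul_comm]; exact Submodule.smul_mem _ a hx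

/-- A group in which independent families are bounded has a family spanning up to torsion. -/
theorem exists_spansUpToTorsion (bd : ℕ)
    (hbd : ∀ (n : ℕ) (e : Fin n → G), LinearIndependent ℤ e → n ≤ bd) :
    ∃ (n : ℕ) (e : Fin n → G), LinearIndependent ℤ e ∧ SpansUpToTorsion e := by
  classical
  let P : ℕ → Prop := fun n => ∃ e : Fin n → G, LinearIndependent ℤ e
  have h0 : P 0 := ⟨Fin.elim0, linearIndependent_empty_type⟩
  obtain ⟨e, he⟩ : P (Nat.findGreatest P bd) := Nat.findGreatest_spec (Nat.zero_le bd) h0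
  refine ⟨_, e, he, fun f => ?_⟩
  have hdep : ¬ LinearIndependent ℤ (Fin.cons f e : Fin (Nat.findGreatest P bd + 1) → G) := fun h => by
    have := Nat.le_findGreatest (P := P) (hbd _ _ h) ⟨_, h⟩
    omega
  obtain ⟨c, hc, i, hi⟩ := Fintype.not_linearIndependent_iff.1 hdep
  rw [Fin.sum_univ_succ] at hc
  simp only [Fin.cons_zero, Fin.cons_succ] at hc
  refine ⟨c 0, fun h0 => hi ?_, ?_⟩
  · rw [h0, zero_smul, zero_add] at hc
    have := Fintype.linearIndependent_iff.1 he _ hc
    exact Fin.cases h0 this i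
  · rw [eq_neg_of_add_eq_zero_left hc]
    exact neg_mem (sum_mem fun j _ => Submodule.smul_mem _ _ (Submodule.subset_span ⟨j, rfl⟩))

/-- The functional attached to a function satisfying the cube identity. -/
theorem exists_functional (Q : G → ℤ)
    (hcube : ∀ f g h, Q (f + g + h) + Q f + Q g + Q h = Q (f + g) + Q (f + h) + Q (g + h))
    (f : G) : ∃ lam : G →+ ℤ, lam f = Q f + Q (-f) := by
  have h0 : Q 0 = 0 := by
    have := hcube 0 0 0
    simp only [add_zero] at this
    linarith
  refine ⟨{ toFun := fun x => Q (f + x) - Q f - Q x, map_zero' := by simp [h0], map_add' := fun x y => ?_ }, ?_⟩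
  · have := hcube f x y
    rw [← add_assoc]
    linarith
  · show Q (f + f) - Q f - Q f = _
    have := hcube f f (-f)
    simp only [add_neg_cancel_right, add_neg_cancel, h0] at this
    linarith

/-- A padic integer all whose approximations are, after a fixed multiple, divisible by the matching power is zero. -/
theorem padic_eq_zero {l : ℕ} [hl : Fact l.Prime] (c : ℤ_[l]) (d : ℤ) (hd : d ≠ 0)
    (h : ∀ m, ((l : ℤ) ^ m) ∣ d * (c.appr m : ℤ)) : c = 0 := by
  have hdc : (d : ℤ_[l]) * c = 0 := by
    refine (PadicInt.ext_of_toZModPow).1 fun m => ?_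
    have h1 : PadicInt.toZModPow m c = ((c.appr m : ℕ) : ZMod (l ^ m)) := rfl
    rw [map_zero, map_mul, map_intCast, h1, ← Int.cast_natCast (R := ZMod (l ^ m)) (c.appr m), ← Int.cast_mul,
      ZMod.intCast_zmod_eq_zero_iff_dvd, Nat.cast_pow]
    exact h m
  exact (mul_eq_zero.1 hdc).resolve_left (by exact_mod_cast hd)

end Groth.Agent.AVHomLib
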