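import Groth.Agent.AVHomLib.CurveExist
import Groth.Agent.AVHomLib.CurveDegPos
import Groth.Agent.AVHomLib.Lattice
import Groth.Agent.H23.CubeAb
import Groth.Agent.Lib.AVProj
import Groth.Prelude.Def_EndRing

/-!
Integral functionals separate homomorphisms of abelian varieties.
-/

set_option autoImplicit false
set_option linter.style.haveILetI false
set_option linter.unusedSectionVars false
set_option backward.isDefEq.respectTransparency false
set_option backward.isDefEq.respectTransparency.types false

universe u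

open CategoryTheory CategoryTheory.Limits MonoidalCategory CartesianMonoidalCategory MonObj AlgebraicGeometry
  TopologicalSpace

namespace Groth.Agent.AVHomLib

open scoped Groth.Agent.H23.PicMul

variable {k : Type u} [Field k] {A B : Over (Spec (CommRingCat.of k))}
  [GrpObj A] [GrpObj B]

/-- A homomorphism with one point in its image is trivial. -/
theorem eq_one_of_range_subsingleton [IsReduced A.left] [IsSeparated B.hom] (φ : A ⟶ B) [IsMonHom φ]
    (h : (Set.range φ.left).Subsingleton) : φ = 1 := by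
  haveI : IsClosedImmersion ((η[B]).left ≫ B.hom) := by
    rw [Over.w (η[B])]
    exact inferInstanceAs (IsClosedImmersion (𝟙 _))
  haveI : IsClosedImmersion (η[B]).left := IsClosedImmersion.of_comp _ B.hom
  let j : pullback φ.left (η[B]).left ⟶ A.left := pullback.fst _ _
  haveI : IsClosedImmersion j := MorphismProperty.pullback_fst (P := @IsClosedImmersion) _ _ inferInstance
  haveI : Surjective j := ⟨fun x => by
    have hx : φ.left x ∈ Set.range (η[B]).left := by
      refine ⟨IsLocalRing.closedPoint k, ?_⟩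
      have h1 : (η[A]).left ≫ φ.left = (η[B]).left := congrArg CommaMorphism.left (IsMonHom.one_hom φ)
      have h2 : φ.left ((η[A]).left (IsLocalRing.closedPoint k)) = (η[B]).left (IsLocalRing.closedPoint k) := by
        rw [← Scheme.Hom.comp_apply, h1]
      exact h2.symm.trans (h ⟨_, rfl⟩ ⟨x, rfl⟩)
    show x ∈ Set.range (pullback.fst φ.left (η[B]).left)
    rw [Scheme.Pullback.range_fst]
    exact hx⟩
  haveI : IsIso j := isIso_of_isClosedImmersion_of_surjective j
  have hfac : φ.left = (inv j ≫ pullback.snd φ.left (η[B]).left) ≫ (η[B]).left := by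
    rw [Category.assoc, ← pullback.condition, IsIso.inv_hom_id_assoc]
  refine Over.OverMorphism.ext ?_
  show φ.left = (toUnit A).left ≫ (η[B]).left
  rw [hfac]
  congr 1
  have hq : ∀ q : A.left ⟶ Spec (CommRingCat.of k), q ≫ (η[B]).left ≫ B.hom = q := fun q => by
    rw [Over.w (η[B])]
    exact Category.comp_id q
  refine Eq.trans ?_ (Over.w (toUnit A)).symm |>.trans (Category.comp_id _)
  rw [← hq (inv j ≫ pullback.snd φ.left (η[B]).left), ← Category.assoc, ← hfac, Over.w]

variable [IsCommMonObj A] [IsCommMonObj B] [IsProper A.hom] [GeometricallyIntegral A.hom]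
  [IsProper B.hom] [GeometricallyIntegral B.hom]

/-- Integral functionals separate homomorphisms. -/
theorem exists_functional_ne_zero (φ : EndAV.Hom A B) (hφ : φ ≠ 0) :
    ∃ lam : EndAV.Hom A B →+ ℤ, lam φ ≠ 0 := by
  haveI : IsIntegral A.left := GeometricallyIntegral.isIntegral_of_subsingleton A.hom
  haveI : IsLocallyNoetherian A.left := LocallyOfFiniteType.isLocallyNoetherian A.hom
  haveI : CompactSpace A.left := QuasiCompact.compactSpace_of_compactSpace A.hom
  haveI : JacobsonSpace A.left := LocallyOfFiniteType.jacobsonSpace A.hom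
  haveI : IsNoetherian A.left := ⟨⟩
  haveI : IsProper φ.toHom.left := by
    haveI : IsProper (φ.toHom.left ≫ B.hom) := by rw [Over.w]; infer_instance
    exact IsProper.of_comp _ B.hom
  obtain ⟨C, j, hj, hC, hdim, hne⟩ := exists_curve φ.toHom.left φ.toHom.left.isClosedMap fun h =>
    hφ (EndAV.Hom.ext (eq_one_of_range_subsingleton φ.toHom h))
  haveI := hj
  haveI := hC
  letI : C.Over (Spec (CommRingCat.of k)) := ⟨j ≫ A.hom⟩
  haveI : IsProper (C ↘ Spec (CommRingCat.of k)) := inferInstanceAs (IsProper (j ≫ A.hom))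
  obtain ⟨L, hL⟩ := AVProj.exists_isAmple (X := B)
  let T : Over (Spec (CommRingCat.of k)) := Over.mk (j ≫ A.hom)
  let t : T ⟶ A := Over.homMk j rfl
  let c : PicF.Cl B.left := PicF.cl L
  have hc : PicF.IsInvertibleCl c := ⟨L, rfl, hL.1⟩
  let Q : EndAV.Hom A B → ℤ := fun ψ => degCl k C (H23.CubeAb.F c (t ≫ ψ.toHom))
  have hinv : ∀ u : T ⟶ B, PicF.IsInvertibleCl (H23.CubeAb.F c u) := fun u =>
    PicClLib.isInvertibleCl_pullCl _ hc
  have hcube : ∀ f g h, Q (f + g + h) + Q f + Q g + Q h = Q (f + g) + Q (f + h) + Q (g + h) := by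
    intro f g h
    have := congrArg (degCl k C) (H23.CubeAb.cube hc (t ≫ f.toHom) (t ≫ g.toHom) (t ≫ h.toHom))
    have hm := @H23.PicMul.isInvertibleCl_mul C
    rw [degCl_mul k C hdim (hm (hm (hinv _) (hinv _)) (hinv _)) (hinv _),
      degCl_mul k C hdim (hm (hinv _) (hinv _)) (hinv _), degCl_mul k C hdim (hinv _) (hinv _),
      degCl_mul k C hdim (hm (hinv _) (hinv _)) (hinv _), degCl_mul k C hdim (hinv _) (hinv _)] at this
    simpa only [Q, EndAV.Hom.toHom_add, MonObj.comp_mul] using this
  have hpos : ∀ ψ, 0 ≤ Q ψ ∧ (Q ψ = 0 → (Set.range (j ≫ ψ.toHom.left)).Subsingleton) := fun ψ =>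
    deg_pullback_ample k C hdim (j ≫ ψ.toHom.left) L hL
  obtain ⟨lam, hlam⟩ := exists_functional Q hcube φ
  refine ⟨lam, ?_⟩
  rw [hlam]
  intro h0
  exact hne ((hpos φ).2 (by linarith [(hpos φ).1, (hpos (-φ)).1]))

theorem hom_finite_free {n : ℕ} (e : Fin n → EndAV.Hom A B) (hspan : SpansUpToTorsion e) :
    Module.Finite ℤ (EndAV.Hom A B) ∧ Module.Free ℤ (EndAV.Hom A B) :=
  finite_of_separating e hspan exists_functional_ne_zero

end Groth.Agent.AVHomLib
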